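set_option autoImplicit false
namespace Cfsg.Agent.Lib.Helper6.TCD.O73X
noncomputable def QX (i : Nat) : Nat := Nat.land (Nat.shiftRight 0x994d67b6b91c8a812d934a68f43b2b89fee678b6e1367b34323d5b8cb06c33b6fd818ad2b231d79687557a1d5c765aa034c7eda543558a5423b395fd4d48f881aceb505534293b5f7ad62a4f0abd35f7637037ac4ee90505ef008e4967ed99bb922f497298d10eb97551ad463b34289116ed46b34eab33e048c6bcea0e9b5d46d0cc27d2458948283559b10552de972a3049e68f34b2f6793655ac210e339b9d00c07f4ccdd306e1de583ea52da56f246cc49d1852aece2ce6a4f8f91fa14691ce82f514d4a08b16d711330c3cf12f4ca8a1a748aa6106fc43a713c5daeabe426854490f4c847ca108f94d3d9206289215dea959330fc89361bd0282262c69e948222e0c793ac2d727f6513dda6d65918a2ac349c0b456358c92b38519c95c5f7a124563a5aa7dd2b41fa4ca45c20890f6e1240e55ad16491114356d0752e2f2a069a6474936070191510c845316b182a283e84d7c1f618dc244a188ecce212a84068141829c524b0695c4a18330808a0f139906c590d9942e3d1302c3c232c0f0222e02058800711070122c070cc0a4d0303014000400c0401 (Nat.mul 9 (Nat.land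 i 511))) 511
end Cfsg.Agent.Lib.Helper6.TCD.O73X
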